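import Mathlib
import Groth.Prelude.Def_HopfRep
import Groth.Prelude.Def_Hoch
import Groth.Prelude.Def_GLin
import Groth.Prelude.Def_W4c1tameactTame
import Groth.Agent.Lib.Helper9.Reynolds

/-!
# The integral of a linearly reductive Hopf algebra and a universe-free Reynolds operator (helper6)

`IsLinearlyReductive k H` only quantifies over comodules in the universe of `H`.  From the Reynolds
operator of the regular comodule `H` we extract an integral `l : H → k`, and then the averaging
operator `(id ⊗ l) ∘ ρ` is a Reynolds operator on comodules in every universe.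
-/

set_option autoImplicit false
set_option linter.unusedSectionVars false
set_option linter.unusedVariables false
set_option linter.unusedSimpArgs false
set_option linter.style.haveILetI false
set_option linter.overlappingInstances false
set_option maxHeartbeats 800000

noncomputable section

namespace Groth.Agent.Lib.Helper6.LinRed

open TensorProduct WithConv

universe u v w w'

section Antipode

variable {k : Type u} [Field k] {H : Type v} [CommRing H] [HopfAlgebra k H]

/-- the antipode of a commutative Hopf algebra is an involution -/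
theorem antipodeAlgHom_comp_self :
    (HopfAlgebra.antipodeAlgHom k H).comp (HopfAlgebra.antipodeAlgHom k H) = AlgHom.id k H := by
  have h1 : (toConv (AlgHom.id k H))⁻¹ = toConv (HopfAlgebra.antipodeAlgHom k H) := by
    show toConv ((AlgHom.id k H).comp (HopfAlgebra.antipodeAlgHom k H)) = _
    rw [AlgHom.id_comp]
  have h2 : (toConv (HopfAlgebra.antipodeAlgHom k H))⁻¹ =
      toConv ((HopfAlgebra.antipodeAlgHom k H).comp (HopfAlgebra.antipodeAlgHom k H)) := rfl
  have h3 : ((toConv (AlgHom.id k H))⁻¹)⁻¹ = toConv (AlgHom.id k H) := inv_inv _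
  rw [h1, h2] at h3
  exact WithConv.toConv_injective h3

theorem antipode_antipode (h : H) :
    HopfAlgebra.antipode k (HopfAlgebra.antipode k h) = h := by
  have := AlgHom.congr_fun (antipodeAlgHom_comp_self (k := k) (H := H)) h
  exact this

/-- the antipode is an anti-coalgebra map -/
theorem comul_antipode (h : H) :
    CoalgebraStruct.comul (R := k) (HopfAlgebra.antipode k h) =
      Algebra.TensorProduct.lift
        ((Algebra.TensorProduct.includeRight : H →ₐ[k] H ⊗[k] H).comp
          (HopfAlgebra.antipodeAlgHom k H))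
        ((Algebra.TensorProduct.includeLeft : H →ₐ[k] H ⊗[k] H).comp
          (HopfAlgebra.antipodeAlgHom k H))
        (fun _ _ => Commute.all _ _) (CoalgebraStruct.comul (R := k) h) := by
  have h1 : toConv (Bialgebra.comulAlgHom k H) =
      toConv (Algebra.TensorProduct.includeLeft : H →ₐ[k] H ⊗[k] H) *
        toConv (Algebra.TensorProduct.includeRight : H →ₐ[k] H ⊗[k] H) := by
    apply WithConv.ofConv_injective
    ext x
    rw [AlgHom.convMul_apply]
    simp only [ofConv_toConv]
    have : Algebra.TensorProduct.lift (Algebra.TensorProduct.includeLeft : H →ₐ[k] H ⊗[k] H)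
        (Algebra.TensorProduct.includeRight : H →ₐ[k] H ⊗[k] H) (fun _ _ => Commute.all _ _) =
        AlgHom.id k (H ⊗[k] H) := by
      ext <;> simp
    rw [this]
    rfl
  have h2 : (toConv (Bialgebra.comulAlgHom k H))⁻¹ =
      (toConv (Algebra.TensorProduct.includeRight : H →ₐ[k] H ⊗[k] H))⁻¹ *
        (toConv (Algebra.TensorProduct.includeLeft : H →ₐ[k] H ⊗[k] H))⁻¹ := by
    rw [h1]
    exact mul_inv_rev (G := WithConv (H →ₐ[k] H ⊗[k] H)) _ _
  have h3 : ((toConv (Bialgebra.comulAlgHom k H))⁻¹) h =
      ((toConv (Algebra.TensorProduct.includeRight : H →ₐ[k] H ⊗[k] H))⁻¹ *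
        (toConv (Algebra.TensorProduct.includeLeft : H →ₐ[k] H ⊗[k] H))⁻¹) h := by
    rw [h2]
  rw [AlgHom.convMul_apply] at h3
  exact h3

end Antipode

section Integral

variable {k : Type u} [Field k] {H : Type v} [CommRing H] [HopfAlgebra k H]

/-- a normalised integral of `H` -/
structure IsInt (l : H →ₗ[k] k) : Prop where
  one : l 1 = 1
  inv : ∀ h : H, TensorProduct.rid k H (l.lTensor H (CoalgebraStruct.comul (R := k) h)) =
    l h • (1 : H)

/-- linear reductivity gives an invariant functional on the regular comodule -/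
theorem exists_right_integral (hG : HopfRep.IsLinearlyReductive k H) :
    ∃ π : H →ₗ[k] k, π 1 = 1 ∧
      ∀ h : H, π.rTensor H (CoalgebraStruct.comul (R := k) h) = π h ⊗ₜ[k] (1 : H) := by
  obtain ⟨E, hE₁, hE₂, hE₃⟩ := Groth.Agent.Helper9.exists_reynolds hG H
  have h1fix : (1 : H) ∈ HopfRep.fixedPts k H H := by
    show CoalgebraStruct.comul (R := k) (1 : H) = (1 : H) ⊗ₜ[k] (1 : H)
    rw [Bialgebra.comul_one, Algebra.TensorProduct.one_def]
  have hE1 : E 1 = 1 := (hE₃ 1).mpr h1fix
  refine ⟨(CoalgebraStruct.counit (R := k) (A := H)) ∘ₗ E, ?_, fun h => ?_⟩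
  · rw [LinearMap.comp_apply, hE1]
    exact Bialgebra.counit_one
  · have hfix : E h ∈ HopfRep.fixedPts k H H :=
      (hE₃ (E h)).mp (LinearMap.congr_fun hE₂ h)
    have hfix' : CoalgebraStruct.comul (R := k) (E h) = E h ⊗ₜ[k] (1 : H) := hfix
    have hcom : CoalgebraStruct.comul (R := k) (E h) =
        E.rTensor H (CoalgebraStruct.comul (R := k) h) := LinearMap.congr_fun hE₁ h
    rw [LinearMap.rTensor_comp_apply, ← hcom, hfix', LinearMap.rTensor_tmul]
    rfl

/-- The normalised integral of a linearly reductive commutative Hopf algebra. -/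
theorem exists_isInt (hG : HopfRep.IsLinearlyReductive k H) : ∃ l : H →ₗ[k] k, IsInt l := by
  obtain ⟨π, hπ1, hπ⟩ := exists_right_integral hG
  let S : H →ₗ[k] H := HopfAlgebra.antipode k
  let l : H →ₗ[k] k := π ∘ₗ S
  have hl1 : l 1 = 1 := by
    show π (HopfAlgebra.antipode k (1 : H)) = 1
    rw [HopfAlgebra.antipode_one, hπ1]
  refine ⟨l, hl1, ?_⟩
  have key : ∀ t : H ⊗[k] H,
      TensorProduct.lid k H (π.rTensor H
        (Algebra.TensorProduct.lift
          ((Algebra.TensorProduct.includeRight : H →ₐ[k] H ⊗[k] H).comp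
            (HopfAlgebra.antipodeAlgHom k H))
          ((Algebra.TensorProduct.includeLeft : H →ₐ[k] H ⊗[k] H).comp
            (HopfAlgebra.antipodeAlgHom k H))
          (fun _ _ => Commute.all _ _) t)) =
      S (TensorProduct.rid k H (l.lTensor H t)) := by
    intro t
    induction t using TensorProduct.induction_on with
    | zero => simp
    | tmul a b =>
      rw [Algebra.TensorProduct.lift_tmul]
      simp only [AlgHom.comp_apply, Algebra.TensorProduct.includeRight_apply,
        Algebra.TensorProduct.includeLeft_apply, Algebra.TensorProduct.tmul_mul_tmul, one_mul,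
        mul_one, LinearMap.rTensor_tmul, LinearMap.lTensor_tmul, TensorProduct.lid_tmul,
        TensorProduct.rid_tmul, map_smul]
      rfl
    | add x y hx hy => simp only [map_add, hx, hy]
  intro h
  have h1 := key (CoalgebraStruct.comul (R := k) h)
  rw [← comul_antipode, hπ, TensorProduct.lid_tmul] at h1
  have h2 := congrArg S h1
  have h3 : ∀ x : H, S (S x) = x := fun x => antipode_antipode x
  rw [h3, map_smul] at h2
  rw [← h2]
  show π (S h) • S 1 = _
  have : S (1 : H) = 1 := HopfAlgebra.antipode_one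
  rw [this]
  rfl

end Integral

section Avg

variable {k : Type u} [Field k] {H : Type v} [CommRing H] [HopfAlgebra k H]
variable {V : Type w} [AddCommGroup V] [Module k V] {W : Type w'} [AddCommGroup W] [Module k W]

/-- the averaging operator attached to a functional `l` on `H` and a coaction `ρ` -/
def avg (l : H →ₗ[k] k) (ρ : V →ₗ[k] V ⊗[k] H) : V →ₗ[k] V :=
  (TensorProduct.rid k V).toLinearMap ∘ₗ l.lTensor V ∘ₗ ρ

theorem avg_apply (l : H →ₗ[k] k) (ρ : V →ₗ[k] V ⊗[k] H) (v : V) :
    avg l ρ v = TensorProduct.rid k V (l.lTensor V (ρ v)) := rfl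

/-- coassociativity of a coaction in the form used below -/
def Coassoc (ρ : V →ₗ[k] V ⊗[k] H) : Prop :=
  ∀ v : V, ρ.rTensor H (ρ v) =
    (TensorProduct.assoc k V H H).symm
      ((CoalgebraStruct.comul (R := k) (A := H)).lTensor V (ρ v))

theorem coassoc_of_comod [HopfRep.Comod k H V] :
    Coassoc (HopfRep.Comod.coact (k := k) (A := H) (V := V)) := by
  intro v
  have := LinearMap.congr_fun (HopfRep.Comod.coassoc (k := k) (A := H) (V := V)) v
  simp only [LinearMap.comp_apply, LinearEquiv.coe_coe] at this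
  rw [← this, LinearEquiv.symm_apply_apply]

theorem avg_of_fixed (l : H →ₗ[k] k) (hl1 : l 1 = 1) (ρ : V →ₗ[k] V ⊗[k] H) {v : V}
    (hv : ρ v = v ⊗ₜ[k] (1 : H)) : avg l ρ v = v := by
  rw [avg_apply, hv, LinearMap.lTensor_tmul, TensorProduct.rid_tmul, hl1, one_smul]

theorem map_rid_lTensor (l : H →ₗ[k] k) (f : V →ₗ[k] W) (t : V ⊗[k] H) :
    f (TensorProduct.rid k V (l.lTensor V t)) =
      TensorProduct.rid k W (l.lTensor W (f.rTensor H t)) := by
  induction t using TensorProduct.induction_on with
  | zero => simp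
  | tmul x h =>
    rw [LinearMap.lTensor_tmul, TensorProduct.rid_tmul, LinearMap.rTensor_tmul,
      LinearMap.lTensor_tmul, TensorProduct.rid_tmul, map_smul]
  | add x y hx hy => simp only [map_add, hx, hy]

theorem rid_lTensor_assoc_symm (l : H →ₗ[k] k) (x : V) (u : H ⊗[k] H) :
    TensorProduct.rid k (V ⊗[k] H) (l.lTensor (V ⊗[k] H)
      ((TensorProduct.assoc k V H H).symm (x ⊗ₜ[k] u))) =
      x ⊗ₜ[k] TensorProduct.rid k H (l.lTensor H u) := by
  induction u using TensorProduct.induction_on with
  | zero => simp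
  | tmul a b =>
    rw [TensorProduct.assoc_symm_tmul, LinearMap.lTensor_tmul, TensorProduct.rid_tmul,
      LinearMap.lTensor_tmul, TensorProduct.rid_tmul, TensorProduct.smul_tmul',
      TensorProduct.smul_tmul, TensorProduct.tmul_smul]
  | add x' y' hx hy =>
    rw [TensorProduct.tmul_add]
    simp only [map_add, hx, hy, TensorProduct.tmul_add]

theorem rid_lTensor_assoc_symm_comul (l : H →ₗ[k] k)
    (hl : ∀ h : H, TensorProduct.rid k H (l.lTensor H (CoalgebraStruct.comul (R := k) h)) =
        l h • (1 : H)) (t : V ⊗[k] H) :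
    TensorProduct.rid k (V ⊗[k] H) (l.lTensor (V ⊗[k] H)
      ((TensorProduct.assoc k V H H).symm
        ((CoalgebraStruct.comul (R := k) (A := H)).lTensor V t))) =
      (TensorProduct.rid k V (l.lTensor V t)) ⊗ₜ[k] (1 : H) := by
  induction t using TensorProduct.induction_on with
  | zero => simp
  | tmul x h =>
    rw [LinearMap.lTensor_tmul, rid_lTensor_assoc_symm, hl, LinearMap.lTensor_tmul,
      TensorProduct.rid_tmul, TensorProduct.tmul_smul, TensorProduct.smul_tmul']
  | add x y hx hy => simp only [map_add, hx, hy, TensorProduct.add_tmul]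

/-- the averaging operator of an integral takes values in the fixed vectors -/
theorem ρ_avg (l : H →ₗ[k] k) (hl : IsInt l) (ρ : V →ₗ[k] V ⊗[k] H) (hρ : Coassoc ρ) (v : V) :
    ρ (avg l ρ v) = avg l ρ v ⊗ₜ[k] (1 : H) := by
  rw [avg_apply, map_rid_lTensor l ρ, hρ v, rid_lTensor_assoc_symm_comul l hl.inv]

/-- naturality of the averaging operator -/
theorem avg_natural (l : H →ₗ[k] k) (ρ : V →ₗ[k] V ⊗[k] H) (ρ' : W →ₗ[k] W ⊗[k] H)
    (f : V →ₗ[k] W) (hf : ∀ v, ρ' (f v) = f.rTensor H (ρ v)) (v : V) :
    f (avg l ρ v) = avg l ρ' (f v) := by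
  rw [avg_apply, avg_apply, map_rid_lTensor l f, hf]

/-- the averaging operator preserves subcomodules -/
theorem avg_mem (l : H →ₗ[k] k) (ρ : V →ₗ[k] V ⊗[k] H) (U : Submodule k V)
    (hU : ∀ u ∈ U, ρ u ∈ LinearMap.range (U.subtype.rTensor H)) {u : V} (hu : u ∈ U) :
    avg l ρ u ∈ U := by
  obtain ⟨t, ht⟩ := hU u hu
  rw [avg_apply, ← ht, ← map_rid_lTensor l U.subtype]
  exact (TensorProduct.rid k U (l.lTensor U t)).2

end Avg

section AvgAlg

variable {k : Type u} [Field k] {H : Type v} [CommRing H] [HopfAlgebra k H]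
variable {R : Type w} [CommRing R] [Algebra k R]

theorem rid_lTensor_mul (l : H →ₗ[k] k) (a : R) (t : R ⊗[k] H) :
    TensorProduct.rid k R (l.lTensor R ((a ⊗ₜ[k] (1 : H)) * t)) =
      a * TensorProduct.rid k R (l.lTensor R t) := by
  induction t using TensorProduct.induction_on with
  | zero => simp
  | tmul x h =>
    rw [Algebra.TensorProduct.tmul_mul_tmul, one_mul, LinearMap.lTensor_tmul,
      LinearMap.lTensor_tmul, TensorProduct.rid_tmul, TensorProduct.rid_tmul, mul_smul_comm]
  | add x y hx hy => rw [mul_add, map_add, map_add, hx, hy, map_add, map_add, mul_add]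

/-- the averaging operator is linear over the invariants -/
theorem avg_mul_of_fixed (l : H →ₗ[k] k) (ρ : R →ₐ[k] R ⊗[k] H) {a : R}
    (ha : ρ a = a ⊗ₜ[k] (1 : H)) (r : R) :
    avg l ρ.toLinearMap (a * r) = a * avg l ρ.toLinearMap r := by
  rw [avg_apply, avg_apply]
  show TensorProduct.rid k R (l.lTensor R (ρ (a * r))) = a * TensorProduct.rid k R (l.lTensor R (ρ r))
  rw [map_mul, ha, rid_lTensor_mul]

end AvgAlg

section AvgMod

variable {k : Type u} [Field k] {H : Type v} [CommRing H] [HopfAlgebra k H]
variable {B : Type w} [CommRing B] [Algebra k B]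
variable {M : Type w'} [AddCommGroup M] [Module k M] [Module B M] [IsScalarTower k B M]

theorem rid_lTensor_hmSMul_left (l : H →ₗ[k] k) (a : B) (t : M ⊗[k] H) :
    TensorProduct.rid k M (l.lTensor M (TameAct.hmSMul k H B M (a ⊗ₜ[k] (1 : H)) t)) =
      a • TensorProduct.rid k M (l.lTensor M t) := by
  induction t using TensorProduct.induction_on with
  | zero => simp
  | tmul x h =>
    rw [TameAct.hmSMul_tmul, one_mul, LinearMap.lTensor_tmul, LinearMap.lTensor_tmul,
      TensorProduct.rid_tmul, TensorProduct.rid_tmul, smul_comm]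
  | add x y hx hy => simp only [map_add, hx, hy, smul_add]

theorem rid_lTensor_hmSMul_right (l : H →ₗ[k] k) (s : B ⊗[k] H) (x : M) :
    TensorProduct.rid k M (l.lTensor M (TameAct.hmSMul k H B M s (x ⊗ₜ[k] (1 : H)))) =
      TensorProduct.rid k B (l.lTensor B s) • x := by
  induction s using TensorProduct.induction_on with
  | zero => simp
  | tmul b h =>
    rw [TameAct.hmSMul_tmul, mul_one, LinearMap.lTensor_tmul, LinearMap.lTensor_tmul,
      TensorProduct.rid_tmul, TensorProduct.rid_tmul, smul_assoc]
  | add y z hy hz => simp only [map_add, LinearMap.add_apply, hy, hz, add_smul]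

end AvgMod

section Classes

variable {k : Type u} [Field k] {H : Type v} [CommRing H] [HopfAlgebra k H]
variable {V : Type w} [AddCommGroup V] [Module k V] [HopfRep.Comod k H V]
variable {W : Type w'} [AddCommGroup W] [Module k W] [HopfRep.Comod k H W]

/-- the Reynolds operator of a comodule attached to an integral -/
def reyn (l : H →ₗ[k] k) : V →ₗ[k] V := avg l (HopfRep.Comod.coact (k := k) (A := H) (V := V))

theorem reyn_mem_fixedPts (l : H →ₗ[k] k) (hl : IsInt l) (v : V) :
    reyn l v ∈ HopfRep.fixedPts k H V :=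
  ρ_avg l hl _ coassoc_of_comod v

theorem reyn_of_mem (l : H →ₗ[k] k) (hl : IsInt l) {v : V} (hv : v ∈ HopfRep.fixedPts k H V) :
    reyn l v = v :=
  avg_of_fixed l hl.one _ hv

theorem reyn_natural (l : H →ₗ[k] k) (f : V →ₗ[k] W) (hf : Hoch.IsComodHom H f) (v : V) :
    f (reyn l v) = reyn l (f v) :=
  avg_natural l _ _ f (fun v => LinearMap.congr_fun hf v) v

theorem reyn_mem_subcomod (l : H →ₗ[k] k) (U : Submodule k V)
    (hU : HopfRep.IsSubcomod (k := k) (A := H) U) {u : V} (hu : u ∈ U) : reyn l u ∈ U :=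
  avg_mem l _ U hU hu

end Classes

section ClassesAlg

variable {k : Type u} [Field k] {H : Type v} [CommRing H] [HopfAlgebra k H]
variable {R : Type w} [CommRing R] [Algebra k R] [HopfRep.Comod k H R] [GLin.IsCoactAlg k H R]
variable {M : Type w'} [AddCommGroup M] [Module k M] [Module R M] [IsScalarTower k R M]
  [HopfRep.Comod k H M] [TameAct.IsHopfMod k H R M]

theorem reyn_mul (l : H →ₗ[k] k) {a : R} (ha : a ∈ GLin.invariants k H R) (r : R) :
    reyn l (a * r) = a * reyn l r :=
  avg_mul_of_fixed l (GLin.coactAlgHom k H R) ha r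

theorem reyn_smul_left (l : H →ₗ[k] k) {a : R} (ha : a ∈ GLin.invariants k H R) (m : M) :
    reyn l (a • m) = a • reyn l m := by
  have ha' : HopfRep.Comod.coact (k := k) (A := H) a = a ⊗ₜ[k] (1 : H) := ha
  show TensorProduct.rid k M (l.lTensor M (HopfRep.Comod.coact (k := k) (A := H) (a • m))) = _
  rw [TameAct.IsHopfMod.coact_smul, ha', rid_lTensor_hmSMul_left]
  rfl

theorem reyn_smul_right (l : H →ₗ[k] k) {x : M} (hx : x ∈ HopfRep.fixedPts k H M) (a : R) :
    reyn l (a • x) = reyn l a • x := by
  have hx' : HopfRep.Comod.coact (k := k) (A := H) x = x ⊗ₜ[k] (1 : H) := hx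
  show TensorProduct.rid k M (l.lTensor M (HopfRep.Comod.coact (k := k) (A := H) (a • x))) = _
  rw [TameAct.IsHopfMod.coact_smul, hx', rid_lTensor_hmSMul_right]
  rfl

end ClassesAlg

end Groth.Agent.Lib.Helper6.LinRed
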