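import Mathlib
import Groth.Agent.Lib.Helper6.LinRed.LRa
import Groth.Agent.Lib.Helper9.Comod
import Groth.Agent.Lib.Helper9.Comod3

/-!
# Matrix coefficients of a finite-dimensional subcomodule (helper6)

Every finite subset of a comodule over a field lies in the span of finitely many vectors `v j` with
`ρ (v j) = ∑ᵢ v i ⊗ c i j` and `Δ (c i j) = ∑ₗ c i l ⊗ c l j`.
-/

set_option autoImplicit false
set_option linter.unusedSectionVars false
set_option linter.unusedVariables false
set_option linter.unusedSimpArgs false
set_option linter.style.haveILetI false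
set_option linter.overlappingInstances false
set_option maxHeartbeats 800000

noncomputable section

namespace Groth.Agent.Lib.Helper6.LinRed

open TensorProduct

universe u v w

section Matrix

variable {k : Type u} [Field k] {H : Type v} [CommRing H] [HopfAlgebra k H]
variable {V : Type w} [AddCommGroup V] [Module k V] [HopfRep.Comod k H V]

/-- a finite set lies in a finite-dimensional subcomodule -/
theorem exists_finite_subcomod_finset (F : Finset V) :
    ∃ W : Submodule k V, Module.Finite k W ∧ (∀ x ∈ F, x ∈ W) ∧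
      HopfRep.IsSubcomod (k := k) (A := H) W := by
  classical
  induction F using Finset.induction_on with
  | empty =>
    exact ⟨⊥, inferInstance, fun x hx => absurd hx (Finset.notMem_empty x),
      Groth.Agent.Helper9.isSubcomod_bot⟩
  | insert x F hx ih =>
    obtain ⟨W, hWf, hWF, hWs⟩ := ih
    obtain ⟨Wx, hWxf, hxW, hWxs⟩ :=
      Groth.Agent.Helper9.exists_finite_subcomod_mem (k := k) (C := H) x
    refine ⟨Wx ⊔ W, ?_, ?_, Groth.Agent.Helper9.isSubcomod_sup Wx W hWxs hWs⟩
    · exact Submodule.finite_sup Wx W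
    · intro y hy
      rcases Finset.mem_insert.mp hy with rfl | hy
      · exact Submodule.mem_sup_left hxW
      · exact Submodule.mem_sup_right (hWF y hy)

/-- `(φ ⊗ id) : V ⊗ X → X` -/
def sl (X : Type*) [AddCommGroup X] [Module k X] (φ : V →ₗ[k] k) : V ⊗[k] X →ₗ[k] X :=
  (TensorProduct.lid k X).toLinearMap ∘ₗ φ.rTensor X

theorem sl_tmul (X : Type*) [AddCommGroup X] [Module k X] (φ : V →ₗ[k] k) (x : V) (y : X) :
    sl X φ (x ⊗ₜ[k] y) = φ x • y := by
  simp [sl]

theorem comul_sl (φ : V →ₗ[k] k) (t : V ⊗[k] H) :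
    CoalgebraStruct.comul (R := k) (sl H φ t) =
      sl (H ⊗[k] H) φ ((CoalgebraStruct.comul (R := k) (A := H)).lTensor V t) := by
  induction t using TensorProduct.induction_on with
  | zero => simp
  | tmul x h => rw [sl_tmul, LinearMap.lTensor_tmul, sl_tmul, map_smul]
  | add x y hx hy => simp only [map_add, hx, hy]

theorem sl_assoc (φ : V →ₗ[k] k) (x : (V ⊗[k] H) ⊗[k] H) :
    sl (H ⊗[k] H) φ (TensorProduct.assoc k V H H x) = (sl H φ).rTensor H x := by
  induction x using TensorProduct.induction_on with
  | zero => simp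
  | tmul y h' =>
    induction y using TensorProduct.induction_on with
    | zero => simp
    | tmul v h =>
      rw [TensorProduct.assoc_tmul, sl_tmul, LinearMap.rTensor_tmul, sl_tmul,
        TensorProduct.smul_tmul']
    | add y z hy hz => simp only [TensorProduct.add_tmul, map_add, hy, hz]
  | add x y hx hy => simp only [map_add, hx, hy]

/-- matrix coefficients of a finite subset of a comodule -/
theorem exists_matrix_coeff (F : Finset V) :
    ∃ (n : ℕ) (vv : Fin n → V) (c : Fin n → Fin n → H),
      (∀ x ∈ F, x ∈ Submodule.span k (Set.range vv)) ∧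
      (∀ j, HopfRep.Comod.coact (k := k) (A := H) (vv j) = ∑ i, vv i ⊗ₜ[k] c i j) ∧
      (∀ i j, CoalgebraStruct.comul (R := k) (c i j) = ∑ l, c i l ⊗ₜ[k] c l j) := by
  classical
  obtain ⟨W, hWf, hWF, hWs⟩ := exists_finite_subcomod_finset (k := k) (H := H) F
  let n := Module.finrank k W
  let b : Module.Basis (Fin n) k W := Module.finBasis k W
  let vv : Fin n → V := fun j => (b j : V)
  have hext : ∀ i, ∃ g : V →ₗ[k] k, g.comp W.subtype = b.coord i := fun i =>
    LinearMap.exists_extend (b.coord i)
  choose φ hφ using hext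
  have hφw : ∀ i (w : W), φ i (w : V) = b.repr w i := by
    intro i w
    have := LinearMap.congr_fun (hφ i) w
    simpa using this
  let c : Fin n → Fin n → H := fun i j =>
    sl H (φ i) (HopfRep.Comod.coact (k := k) (A := H) (vv j))
  -- expansion of elements of `W ⊗ H`
  have hexp : ∀ t' : W ⊗[k] H, W.subtype.rTensor H t' =
      ∑ i, vv i ⊗ₜ[k] sl H (φ i) (W.subtype.rTensor H t') := by
    intro t'
    induction t' using TensorProduct.induction_on with
    | zero => simp
    | tmul w h =>
      rw [LinearMap.rTensor_tmul, Submodule.subtype_apply]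
      have h1 : ∀ i, vv i ⊗ₜ[k] sl H (φ i) ((w : V) ⊗ₜ[k] h) = (b.repr w i • vv i) ⊗ₜ[k] h := by
        intro i
        rw [sl_tmul, hφw, TensorProduct.tmul_smul, TensorProduct.smul_tmul']
      rw [Finset.sum_congr rfl (fun i _ => h1 i), ← TensorProduct.sum_tmul]
      congr 1
      have h2 := b.sum_repr w
      have h3 := congrArg (fun z : W => (z : V)) h2
      simp only [AddSubmonoidClass.coe_finsetSum, Submodule.coe_smul] at h3
      exact h3.symm
    | add x y hx hy =>
      have h4 : ∑ i, vv i ⊗ₜ[k] sl H (φ i) (W.subtype.rTensor H (x + y)) =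
          ∑ i, vv i ⊗ₜ[k] sl H (φ i) (W.subtype.rTensor H x) +
            ∑ i, vv i ⊗ₜ[k] sl H (φ i) (W.subtype.rTensor H y) := by
        rw [← Finset.sum_add_distrib]
        refine Finset.sum_congr rfl fun i _ => ?_
        rw [map_add, map_add, TensorProduct.tmul_add]
      rw [h4, ← hx, ← hy, map_add]
  have hcoact : ∀ j, HopfRep.Comod.coact (k := k) (A := H) (vv j) = ∑ i, vv i ⊗ₜ[k] c i j := by
    intro j
    obtain ⟨t', ht'⟩ := hWs (vv j) (b j).2
    have := hexp t'
    rw [ht'] at this
    exact this
  refine ⟨n, vv, c, ?_, hcoact, ?_⟩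
  · intro x hx
    have hxW := hWF x hx
    have h2 := b.sum_repr ⟨x, hxW⟩
    have h3 := congrArg (fun z : W => (z : V)) h2
    simp only [AddSubmonoidClass.coe_finsetSum, Submodule.coe_smul] at h3
    rw [← h3]
    exact Submodule.sum_mem _ fun i _ =>
      Submodule.smul_mem _ _ (Submodule.subset_span ⟨i, rfl⟩)
  · intro i j
    have hco := LinearMap.congr_fun (HopfRep.Comod.coassoc (k := k) (A := H) (V := V)) (vv j)
    simp only [LinearMap.comp_apply, LinearEquiv.coe_coe] at hco
    show CoalgebraStruct.comul (R := k)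
      (sl H (φ i) (HopfRep.Comod.coact (k := k) (A := H) (vv j))) = _
    rw [comul_sl, ← hco, sl_assoc, hcoact j, map_sum, map_sum]
    refine Finset.sum_congr rfl fun l _ => ?_
    rw [LinearMap.rTensor_tmul, LinearMap.rTensor_tmul]

end Matrix

end Groth.Agent.Lib.Helper6.LinRed
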