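import Mathlib
import Groth.Agent.Lib.Helper6.LinRed.LRa

/-!
# A polynomial ring over a comodule algebra with a linear coaction on the variables (helper6)

`P = A[x₁,…,xₙ]`, coaction `ρP` extending `ρA` on `A` and `x_j ↦ ∑ᵢ xᵢ ⊗ c i j` on the variables.
We prove coassociativity and that the coaction preserves the grading by degree.
-/

set_option autoImplicit false
set_option linter.unusedSectionVars false
set_option linter.unusedVariables false
set_option linter.unusedSimpArgs false
set_option linter.style.haveILetI false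
set_option linter.overlappingInstances false
set_option maxHeartbeats 800000

noncomputable section

namespace Groth.Agent.Lib.Helper6.LinRed

open TensorProduct MvPolynomial

universe u v w w'

section Engine

variable {k : Type u} [Field k] {H : Type v} [CommRing H] [HopfAlgebra k H]
variable {A : Type w} [CommRing A] [Algebra k A] (ρA : A →ₐ[k] A ⊗[k] H)
variable {n : ℕ} (c : Fin n → Fin n → H)

variable (k A n) in
/-- constants, as a `k`-algebra map -/
def ιP : A →ₐ[k] MvPolynomial (Fin n) A := IsScalarTower.toAlgHom k A (MvPolynomial (Fin n) A)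

theorem ιP_apply (a : A) : ιP k A n a = C a := rfl

variable (k n) in
/-- evaluation at the origin, as a `k`-algebra map -/
def ev0 (A : Type w) [CommRing A] [Algebra k A] : MvPolynomial (Fin n) A →ₐ[k] A :=
  (aeval (fun _ : Fin n => (0 : A))).restrictScalars k

theorem ev0_C (a : A) : ev0 k n A (C a) = a := by
  show aeval (fun _ : Fin n => (0 : A)) (C a) = a
  rw [aeval_C]; rfl

theorem map_ev0_map_ιP (t : A ⊗[k] H) :
    Algebra.TensorProduct.map (ev0 k n A) (AlgHom.id k H)
      (Algebra.TensorProduct.map (ιP k A n) (AlgHom.id k H) t) = t := by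
  induction t using TensorProduct.induction_on with
  | zero => simp
  | tmul a h =>
    rw [Algebra.TensorProduct.map_tmul, Algebra.TensorProduct.map_tmul, ιP_apply, ev0_C]
    rfl
  | add x y hx hy => rw [map_add, map_add, hx, hy]

/-- the coaction on the polynomial ring -/
def ρP : MvPolynomial (Fin n) A →ₐ[k] MvPolynomial (Fin n) A ⊗[k] H :=
  aevalTower ((Algebra.TensorProduct.map (ιP k A n) (AlgHom.id k H)).comp ρA)
    (fun j => ∑ i, (X i : MvPolynomial (Fin n) A) ⊗ₜ[k] c i j)

theorem ρP_C (a : A) :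
    ρP ρA c (C a) = Algebra.TensorProduct.map (ιP k A n) (AlgHom.id k H) (ρA a) := by
  unfold ρP
  rw [aevalTower_C]
  rfl

theorem ρP_X (j : Fin n) :
    ρP ρA c (X j) = ∑ i, (X i : MvPolynomial (Fin n) A) ⊗ₜ[k] c i j := by
  unfold ρP
  rw [aevalTower_X]

/-- constants that are invariant in `P` are invariant in `A` -/
theorem fixed_of_ρP_C {a : A} (h : ρP ρA c (C a) = (C a) ⊗ₜ[k] (1 : H)) :
    ρA a = a ⊗ₜ[k] (1 : H) := by
  have h1 := congrArg (Algebra.TensorProduct.map (ev0 k n A) (AlgHom.id k H)) h
  rw [ρP_C, map_ev0_map_ιP, Algebra.TensorProduct.map_tmul, ev0_C] at h1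
  exact h1

theorem ρP_C_of_fixed {a : A} (h : ρA a = a ⊗ₜ[k] (1 : H)) :
    ρP ρA c (C a) = (C a) ⊗ₜ[k] (1 : H) := by
  rw [ρP_C, h, Algebra.TensorProduct.map_tmul]
  rfl

section Coassoc

theorem N1 (t : A ⊗[k] H) :
    Algebra.TensorProduct.map (ρP ρA c) (AlgHom.id k H)
      (Algebra.TensorProduct.map (ιP k A n) (AlgHom.id k H) t) =
    Algebra.TensorProduct.map (Algebra.TensorProduct.map (ιP k A n) (AlgHom.id k H))
      (AlgHom.id k H) (Algebra.TensorProduct.map ρA (AlgHom.id k H) t) := by
  induction t using TensorProduct.induction_on with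
  | zero => simp
  | tmul a h =>
    simp only [Algebra.TensorProduct.map_tmul, ιP_apply, ρP_C]
  | add x y hx hy => rw [map_add, map_add, hx, hy, map_add, map_add]

theorem N2' (a : A) (w : H ⊗[k] H) :
    (TensorProduct.assoc k (MvPolynomial (Fin n) A) H H).symm ((ιP k A n a) ⊗ₜ[k] w) =
    Algebra.TensorProduct.map (Algebra.TensorProduct.map (ιP k A n) (AlgHom.id k H))
      (AlgHom.id k H) ((TensorProduct.assoc k A H H).symm (a ⊗ₜ[k] w)) := by
  induction w using TensorProduct.induction_on with
  | zero => simp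
  | tmul h₁ h₂ =>
    rw [TensorProduct.assoc_symm_tmul, TensorProduct.assoc_symm_tmul,
      Algebra.TensorProduct.map_tmul, Algebra.TensorProduct.map_tmul]
    rfl
  | add x y hx hy =>
    rw [TensorProduct.tmul_add, map_add, hx, hy, TensorProduct.tmul_add, map_add, map_add]

theorem N2 (t : A ⊗[k] H) :
    (TensorProduct.assoc k (MvPolynomial (Fin n) A) H H).symm
      ((CoalgebraStruct.comul (R := k) (A := H)).lTensor (MvPolynomial (Fin n) A)
        (Algebra.TensorProduct.map (ιP k A n) (AlgHom.id k H) t)) =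
    Algebra.TensorProduct.map (Algebra.TensorProduct.map (ιP k A n) (AlgHom.id k H))
      (AlgHom.id k H) ((TensorProduct.assoc k A H H).symm
        ((CoalgebraStruct.comul (R := k) (A := H)).lTensor A t)) := by
  induction t using TensorProduct.induction_on with
  | zero => simp
  | tmul a h =>
    rw [Algebra.TensorProduct.map_tmul, LinearMap.lTensor_tmul, LinearMap.lTensor_tmul]
    exact N2' a _
  | add x y hx hy => simp only [map_add, hx, hy]

/-- coassociativity of the coaction on the polynomial ring -/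
theorem coassoc_ρP (hA : Coassoc ρA.toLinearMap)
    (hc : ∀ i j, CoalgebraStruct.comul (R := k) (c i j) = ∑ l, c i l ⊗ₜ[k] c l j) :
    Coassoc (ρP ρA c).toLinearMap := by
  have hLR : (Algebra.TensorProduct.map (ρP ρA c) (AlgHom.id k H)).comp (ρP ρA c) =
      ((Algebra.TensorProduct.assoc k k k (MvPolynomial (Fin n) A) H H).symm.toAlgHom).comp
        ((Algebra.TensorProduct.map (AlgHom.id k (MvPolynomial (Fin n) A))
          (Bialgebra.comulAlgHom k H)).comp (ρP ρA c)) := by
    refine MvPolynomial.algHom_ext' (R := k) (A := A)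
      (B := (MvPolynomial (Fin n) A ⊗[k] H) ⊗[k] H) ?_ ?_
    · apply AlgHom.ext
      intro a
      show Algebra.TensorProduct.map (ρP ρA c) (AlgHom.id k H) (ρP ρA c (C a)) =
        (TensorProduct.assoc k (MvPolynomial (Fin n) A) H H).symm
          ((CoalgebraStruct.comul (R := k) (A := H)).lTensor (MvPolynomial (Fin n) A)
            (ρP ρA c (C a)))
      rw [ρP_C, N1, N2]
      congr 1
      exact hA a
    · intro j
      show Algebra.TensorProduct.map (ρP ρA c) (AlgHom.id k H) (ρP ρA c (X j)) =
        (TensorProduct.assoc k (MvPolynomial (Fin n) A) H H).symm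
          ((CoalgebraStruct.comul (R := k) (A := H)).lTensor (MvPolynomial (Fin n) A)
            (ρP ρA c (X j)))
      rw [ρP_X, map_sum, map_sum, map_sum]
      have h1 : ∀ i, Algebra.TensorProduct.map (ρP ρA c) (AlgHom.id k H)
          ((X i : MvPolynomial (Fin n) A) ⊗ₜ[k] c i j) =
          ∑ l, ((X l : MvPolynomial (Fin n) A) ⊗ₜ[k] c l i) ⊗ₜ[k] c i j := by
        intro i
        rw [Algebra.TensorProduct.map_tmul, ρP_X, TensorProduct.sum_tmul]
        rfl
      have h2 : ∀ i, (TensorProduct.assoc k (MvPolynomial (Fin n) A) H H).symm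
          ((CoalgebraStruct.comul (R := k) (A := H)).lTensor (MvPolynomial (Fin n) A)
            ((X i : MvPolynomial (Fin n) A) ⊗ₜ[k] c i j)) =
          ∑ l, ((X i : MvPolynomial (Fin n) A) ⊗ₜ[k] c i l) ⊗ₜ[k] c l j := by
        intro i
        rw [LinearMap.lTensor_tmul, hc, TensorProduct.tmul_sum, map_sum]
        rfl
      rw [Finset.sum_congr rfl (fun i _ => h1 i), Finset.sum_congr rfl (fun i _ => h2 i),
        Finset.sum_comm]
  intro p
  exact AlgHom.congr_fun hLR p

end Coassoc

section Degree

variable (k H A n) in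
/-- the degree-`d` part of `P ⊗ H` -/
def Tsub (d : ℕ) : Submodule k (MvPolynomial (Fin n) A ⊗[k] H) :=
  LinearMap.range (((homogeneousSubmodule (Fin n) A d).restrictScalars k).subtype.rTensor H)

theorem tmul_mem_Tsub {d : ℕ} {u : MvPolynomial (Fin n) A}
    (hu : u ∈ homogeneousSubmodule (Fin n) A d) (h : H) : u ⊗ₜ[k] h ∈ Tsub k H A n d :=
  ⟨(⟨u, hu⟩ : (homogeneousSubmodule (Fin n) A d).restrictScalars k) ⊗ₜ[k] h, rfl⟩

theorem Tsub_mul {a b : ℕ} {x y : MvPolynomial (Fin n) A ⊗[k] H} (hx : x ∈ Tsub k H A n a)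
    (hy : y ∈ Tsub k H A n b) : x * y ∈ Tsub k H A n (a + b) := by
  obtain ⟨tx, rfl⟩ := hx
  obtain ⟨ty, rfl⟩ := hy
  induction tx using TensorProduct.induction_on with
  | zero => rw [map_zero, zero_mul]; exact Submodule.zero_mem _
  | tmul u h =>
    induction ty using TensorProduct.induction_on with
    | zero => rw [map_zero, mul_zero]; exact Submodule.zero_mem _
    | tmul u' h' =>
      rw [LinearMap.rTensor_tmul, LinearMap.rTensor_tmul, Algebra.TensorProduct.tmul_mul_tmul]
      exact tmul_mem_Tsub (IsHomogeneous.mul u.2 u'.2) _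
    | add y z hy hz => rw [map_add, mul_add]; exact add_mem hy hz
  | add x z hx hz => rw [map_add, add_mul]; exact add_mem hx hz

theorem one_mem_Tsub : (1 : MvPolynomial (Fin n) A ⊗[k] H) ∈ Tsub k H A n 0 := by
  rw [Algebra.TensorProduct.one_def]
  exact tmul_mem_Tsub (isHomogeneous_one (Fin n) A) _

theorem pow_mem_Tsub {x : MvPolynomial (Fin n) A ⊗[k] H} (hx : x ∈ Tsub k H A n 1) (b : ℕ) :
    x ^ b ∈ Tsub k H A n b := by
  induction b with
  | zero => rw [pow_zero]; exact one_mem_Tsub
  | succ b ih => rw [pow_succ]; exact Tsub_mul ih hx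

theorem map_ιP_mem_Tsub (t : A ⊗[k] H) :
    Algebra.TensorProduct.map (ιP k A n) (AlgHom.id k H) t ∈ Tsub k H A n 0 := by
  induction t using TensorProduct.induction_on with
  | zero => rw [map_zero]; exact Submodule.zero_mem _
  | tmul a h =>
    rw [Algebra.TensorProduct.map_tmul, ιP_apply]
    exact tmul_mem_Tsub (isHomogeneous_C (Fin n) a) _
  | add x y hx hy => rw [map_add]; exact add_mem hx hy

theorem ρP_X_mem_Tsub (j : Fin n) : ρP ρA c (X j) ∈ Tsub k H A n 1 := by
  rw [ρP_X]
  exact Submodule.sum_mem _ fun i _ => tmul_mem_Tsub (isHomogeneous_X A i) _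

theorem ρP_monomial_mem_Tsub (s : Fin n →₀ ℕ) (a : A) :
    ρP ρA c (monomial s a) ∈ Tsub k H A n s.degree := by
  induction s using Finsupp.induction with
  | zero =>
    rw [← C_apply, ρP_C, map_zero]
    exact map_ιP_mem_Tsub _
  | single_add i b s' _ _ ih =>
    rw [monomial_single_add, map_mul, map_pow, map_add, Finsupp.degree_single]
    exact Tsub_mul (pow_mem_Tsub (ρP_X_mem_Tsub ρA c i) b) ih

/-- the coaction preserves the grading -/
theorem ρP_mem_Tsub {d : ℕ} {f : MvPolynomial (Fin n) A}
    (hf : f ∈ homogeneousSubmodule (Fin n) A d) : ρP ρA c f ∈ Tsub k H A n d := by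
  have hf' : f.IsHomogeneous d := hf
  rw [← support_sum_monomial_coeff f, map_sum]
  apply Submodule.sum_mem
  intro m hm
  have hdeg : m.degree = d := by
    by_contra hne
    have := hf'.coeff_eq_zero hne
    exact (mem_support_iff.mp hm) this
  rw [← hdeg]
  exact ρP_monomial_mem_Tsub ρA c m _

end Degree

end Engine

end Groth.Agent.Lib.Helper6.LinRed
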