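import Mathlib
import Groth.Agent.Lib.Helper6.LinRed.LRa
import Groth.Agent.Lib.Helper6.LinRed.LRb
import Groth.Agent.Lib.Helper9.HilbertFin

/-!
# Hilbert's finiteness argument over a Noetherian comodule algebra (helper6)

For `P = A[x₁,…,xₙ]` with the linear coaction of `LRb`, `A` Noetherian and `H` possessing an
integral, the invariants of `P` are generated over the invariants of `A` by finitely many elements;
the same then holds for every equivariant quotient of `P`.
-/

set_option autoImplicit false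
set_option linter.unusedSectionVars false
set_option linter.unusedVariables false
set_option linter.unusedSimpArgs false
set_option linter.style.haveILetI false
set_option linter.overlappingInstances false
set_option maxHeartbeats 800000

noncomputable section

namespace Groth.Agent.Lib.Helper6.LinRed

open TensorProduct MvPolynomial

universe u v w w'

section Hilbert

variable {k : Type u} [Field k] {H : Type v} [CommRing H] [HopfAlgebra k H]
variable {A : Type w} [CommRing A] [Algebra k A] (ρA : A →ₐ[k] A ⊗[k] H)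
variable {n : ℕ} (c : Fin n → Fin n → H)

/-- Hilbert's argument: the invariants of `P` are finitely generated over those of `A`. -/
theorem hilbert_P [IsNoetherianRing A] (l : H →ₗ[k] k) (hl : IsInt l)
    (hA : Coassoc ρA.toLinearMap)
    (hc : ∀ i j, CoalgebraStruct.comul (R := k) (c i j) = ∑ l, c i l ⊗ₜ[k] c l j) :
    ∃ s : Finset (MvPolynomial (Fin n) A),
      (∀ f ∈ s, ρP ρA c f = f ⊗ₜ[k] (1 : H)) ∧
      ∀ f : MvPolynomial (Fin n) A, ρP ρA c f = f ⊗ₜ[k] (1 : H) →
        f ∈ Algebra.adjoin k ((fun a : A => (C a : MvPolynomial (Fin n) A)) ''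
          {a : A | ρA a = a ⊗ₜ[k] (1 : H)} ∪ (s : Set (MvPolynomial (Fin n) A))) := by
  classical
  set E : MvPolynomial (Fin n) A →ₗ[k] MvPolynomial (Fin n) A :=
    avg l (ρP ρA c).toLinearMap with hE
  have hco : Coassoc (ρP ρA c).toLinearMap := coassoc_ρP ρA c hA hc
  have hEfix : ∀ f, ρP ρA c (E f) = E f ⊗ₜ[k] (1 : H) := fun f =>
    ρ_avg l hl (ρP ρA c).toLinearMap hco f
  have hEid : ∀ f, ρP ρA c f = f ⊗ₜ[k] (1 : H) → E f = f := fun f hf =>
    avg_of_fixed l hl.one (ρP ρA c).toLinearMap hf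
  have hEU : ∀ d f, f ∈ homogeneousSubmodule (Fin n) A d →
      E f ∈ homogeneousSubmodule (Fin n) A d := by
    intro d f hf
    have := avg_mem l (ρP ρA c).toLinearMap
      ((homogeneousSubmodule (Fin n) A d).restrictScalars k)
      (fun u hu => ρP_mem_Tsub ρA c hu) (u := f) hf
    exact this
  have hEmul : ∀ g, ρP ρA c g = g ⊗ₜ[k] (1 : H) → ∀ a, E (g * a) = g * E a :=
    fun g hg a => avg_mul_of_fixed l (ρP ρA c) hg a
  let S : Set (MvPolynomial (Fin n) A) :=
    {f | ρP ρA c f = f ⊗ₜ[k] (1 : H) ∧ ∃ d, 0 < d ∧ f ∈ homogeneousSubmodule (Fin n) A d}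
  have hfg : (Ideal.span S).FG := IsNoetherian.noetherian _
  obtain ⟨s, hsS, hspan⟩ := (Submodule.fg_span_iff_fg_span_finset_subset S).mp hfg
  refine ⟨s, fun f hf => (hsS hf).1, ?_⟩
  set T : Set (MvPolynomial (Fin n) A) :=
    (fun a : A => (C a : MvPolynomial (Fin n) A)) '' {a : A | ρA a = a ⊗ₜ[k] (1 : H)} ∪
      (s : Set (MvPolynomial (Fin n) A)) with hT
  -- homogeneous case
  have hP : ∀ d : ℕ, ∀ f, f ∈ homogeneousSubmodule (Fin n) A d →
      ρP ρA c f = f ⊗ₜ[k] (1 : H) → f ∈ Algebra.adjoin k T := by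
    intro d
    induction d using Nat.strong_induction_on with
    | _ d ih =>
      intro f hfd hffix
      rcases Nat.eq_zero_or_pos d with hd0 | hdpos
      · subst hd0
        rw [MvPolynomial.homogeneousSubmodule_zero, Submodule.mem_one] at hfd
        obtain ⟨a, rfl⟩ := hfd
        apply Algebra.subset_adjoin
        left
        exact ⟨a, fixed_of_ρP_C ρA c hffix, rfl⟩
      · have hfS : f ∈ S := ⟨hffix, d, hdpos, hfd⟩
        have hfI : f ∈ Ideal.span (s : Set (MvPolynomial (Fin n) A)) := by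
          have : f ∈ Ideal.span S := Ideal.subset_span hfS
          rw [Ideal.span, hspan] at this
          exact this
        obtain ⟨cf, -, hcf⟩ := Submodule.mem_span_finset.mp hfI
        have hf1 : f = E (homogeneousComponent d f) := by
          rw [MvPolynomial.homogeneousComponent_of_mem hfd, if_pos rfl]
          exact (hEid f hffix).symm
        rw [hf1, ← hcf, map_sum, map_sum]
        apply Subalgebra.sum_mem
        intro g hg
        obtain ⟨hgfix, e, hepos, hge⟩ := hsS hg
        rw [smul_eq_mul,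
          Groth.Agent.Helper9.HilbertFin.homogeneousComponent_mul_of_mem (cf g) g d hge]
        split_ifs with hle
        · rw [mul_comm, hEmul g hgfix]
          apply Subalgebra.mul_mem
          · exact Algebra.subset_adjoin (Or.inr hg)
          · exact ih (d - e) (by omega) _ (hEU _ _ (homogeneousComponent_mem _ _)) (hEfix _)
        · rw [map_zero]; exact Subalgebra.zero_mem _
  -- general case
  intro f hffix
  have h1 : f = E f := (hEid f hffix).symm
  rw [h1, ← MvPolynomial.sum_homogeneousComponent f, map_sum]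
  apply Subalgebra.sum_mem
  intro d _
  exact hP d _ (hEU _ _ (homogeneousComponent_mem _ _)) (hEfix _)

end Hilbert

section Transfer

variable {k : Type u} [Field k] {H : Type v} [CommRing H] [HopfAlgebra k H]
variable {A : Type w} [CommRing A] [Algebra k A] (ρA : A →ₐ[k] A ⊗[k] H)
variable {n : ℕ} (c : Fin n → Fin n → H)
variable {Cc : Type w'} [CommRing Cc] [Algebra k Cc] (ρC : Cc →ₐ[k] Cc ⊗[k] H) (φ : A →ₐ[k] Cc)
  (vv : Fin n → Cc)

/-- the equivariant map `P → C` -/
def Θ : MvPolynomial (Fin n) A →ₐ[k] Cc := aevalTower φ vv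

theorem Θ_C (a : A) : Θ φ vv (C a) = φ a := by
  unfold Θ; rw [aevalTower_C]

theorem Θ_X (j : Fin n) : Θ φ vv (X j) = vv j := by
  unfold Θ; rw [aevalTower_X]

theorem map_Θ_map_ιP (t : A ⊗[k] H) :
    Algebra.TensorProduct.map (Θ φ vv) (AlgHom.id k H)
      (Algebra.TensorProduct.map (ιP k A n) (AlgHom.id k H) t) =
    Algebra.TensorProduct.map φ (AlgHom.id k H) t := by
  induction t using TensorProduct.induction_on with
  | zero => simp
  | tmul a h =>
    simp only [Algebra.TensorProduct.map_tmul, ιP_apply, Θ_C, AlgHom.id_apply]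
  | add x y hx hy => rw [map_add, map_add, hx, hy, map_add]

theorem Θ_equivariant
    (hφ : ∀ a, ρC (φ a) = Algebra.TensorProduct.map φ (AlgHom.id k H) (ρA a))
    (hv : ∀ j, ρC (vv j) = ∑ i, vv i ⊗ₜ[k] c i j) (p : MvPolynomial (Fin n) A) :
    ρC (Θ φ vv p) = Algebra.TensorProduct.map (Θ φ vv) (AlgHom.id k H) (ρP ρA c p) := by
  have h : ρC.comp (Θ φ vv) =
      (Algebra.TensorProduct.map (Θ φ vv) (AlgHom.id k H)).comp (ρP ρA c) := by
    refine MvPolynomial.algHom_ext' (R := k) (A := A) (B := Cc ⊗[k] H) ?_ ?_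
    · apply AlgHom.ext
      intro a
      show ρC (Θ φ vv (C a)) =
        Algebra.TensorProduct.map (Θ φ vv) (AlgHom.id k H) (ρP ρA c (C a))
      rw [Θ_C, hφ, ρP_C, map_Θ_map_ιP]
    · intro j
      show ρC (Θ φ vv (X j)) =
        Algebra.TensorProduct.map (Θ φ vv) (AlgHom.id k H) (ρP ρA c (X j))
      rw [Θ_X, hv, ρP_X, map_sum]
      refine Finset.sum_congr rfl fun i _ => ?_
      rw [Algebra.TensorProduct.map_tmul, Θ_X]
      rfl
  exact AlgHom.congr_fun h p

/-- finite generation of invariants for an equivariant quotient of `P` -/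
theorem exists_generators_of_surjective [IsNoetherianRing A] (l : H →ₗ[k] k) (hl : IsInt l)
    (hA : Coassoc ρA.toLinearMap)
    (hc : ∀ i j, CoalgebraStruct.comul (R := k) (c i j) = ∑ l, c i l ⊗ₜ[k] c l j)
    (hφ : ∀ a, ρC (φ a) = Algebra.TensorProduct.map φ (AlgHom.id k H) (ρA a))
    (hv : ∀ j, ρC (vv j) = ∑ i, vv i ⊗ₜ[k] c i j)
    (hsurj : Function.Surjective (Θ φ vv)) :
    ∃ s : Finset Cc, (∀ f ∈ s, ρC f = f ⊗ₜ[k] (1 : H)) ∧
      ∀ f : Cc, ρC f = f ⊗ₜ[k] (1 : H) →
        f ∈ Algebra.adjoin k (φ '' {a : A | ρA a = a ⊗ₜ[k] (1 : H)} ∪ (s : Set Cc)) := by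
  classical
  obtain ⟨s, hs1, hs2⟩ := hilbert_P ρA c l hl hA hc
  have heq := Θ_equivariant ρA c ρC φ vv hφ hv
  refine ⟨s.image (Θ φ vv), ?_, ?_⟩
  · intro f hf
    obtain ⟨g, hg, rfl⟩ := Finset.mem_image.mp hf
    rw [heq, hs1 g hg, Algebra.TensorProduct.map_tmul]
    rfl
  · intro f hf
    obtain ⟨p, rfl⟩ := hsurj f
    have h1 : Θ φ vv p = avg l ρC.toLinearMap (Θ φ vv p) :=
      (avg_of_fixed l hl.one ρC.toLinearMap hf).symm
    have h2 : (Θ φ vv).toLinearMap (avg l (ρP ρA c).toLinearMap p) =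
        avg l ρC.toLinearMap ((Θ φ vv).toLinearMap p) :=
      avg_natural l (ρP ρA c).toLinearMap ρC.toLinearMap (Θ φ vv).toLinearMap
        (fun q => heq q) p
    have h3 : ρP ρA c (avg l (ρP ρA c).toLinearMap p) =
        avg l (ρP ρA c).toLinearMap p ⊗ₜ[k] (1 : H) :=
      ρ_avg l hl (ρP ρA c).toLinearMap (coassoc_ρP ρA c hA hc) p
    have h4 := hs2 _ h3
    have h5 : Θ φ vv (avg l (ρP ρA c).toLinearMap p) ∈
        (Algebra.adjoin k ((fun a : A => (C a : MvPolynomial (Fin n) A)) ''
          {a : A | ρA a = a ⊗ₜ[k] (1 : H)} ∪ (s : Set (MvPolynomial (Fin n) A)))).map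
          (Θ φ vv) := ⟨_, h4, rfl⟩
    rw [AlgHom.map_adjoin, Set.image_union, Set.image_image] at h5
    have h6 : (fun a : A => Θ φ vv (C a)) = fun a => φ a := funext fun a => Θ_C φ vv a
    rw [h6] at h5
    rw [h1]
    have h7 : avg l ρC.toLinearMap (Θ φ vv p) =
        Θ φ vv (avg l (ρP ρA c).toLinearMap p) := h2.symm
    rw [h7]
    rw [Finset.coe_image]
    exact h5

end Transfer

end Groth.Agent.Lib.Helper6.LinRed
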