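import Mathlib
import Groth.Agent.Lib.Helper6.LinRed.LRa
import Groth.Agent.Lib.Helper6.LinRed.LRb
import Groth.Agent.Lib.Helper6.LinRed.LRc
import Groth.Agent.Lib.Helper6.LinRed.LRd

/-!
# A Noetherian comodule algebra is of finite type over its invariants (helper6)

`G = Spec H` linearly reductive of finite type, acting on `Spec A` with `A` Noetherian.  We apply the
relative Hilbert theorem to `Q = A ⊗ H` with coaction `id ⊗ Δ`, an `A`-algebra through `ρ_A`,
whose ring of invariants is `A ⊗ 1`.
-/

set_option autoImplicit false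
set_option linter.unusedSectionVars false
set_option linter.unusedVariables false
set_option linter.unusedSimpArgs false
set_option linter.style.haveILetI false
set_option linter.overlappingInstances false
set_option maxHeartbeats 800000

noncomputable section

namespace Groth.Agent.Lib.Helper6.LinRed

open TensorProduct MvPolynomial

universe u v w

section Shear

variable {k : Type u} [Field k] {H : Type v} [CommRing H] [HopfAlgebra k H]
variable {A : Type w} [CommRing A] [Algebra k A]

variable (k H A) in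
/-- the coaction `id ⊗ Δ` on `A ⊗ H` -/
def ρQ : A ⊗[k] H →ₐ[k] (A ⊗[k] H) ⊗[k] H :=
  ((Algebra.TensorProduct.assoc k k k A H H).symm.toAlgHom).comp
    (Algebra.TensorProduct.map (AlgHom.id k A) (Bialgebra.comulAlgHom k H))

theorem ρQ_apply (t : A ⊗[k] H) :
    ρQ k H A t = (TensorProduct.assoc k A H H).symm
      ((CoalgebraStruct.comul (R := k) (A := H)).lTensor A t) := rfl

theorem ρQ_tmul_one (a : A) : ρQ k H A (a ⊗ₜ[k] (1 : H)) = (a ⊗ₜ[k] (1 : H)) ⊗ₜ[k] (1 : H) := by
  rw [ρQ_apply, LinearMap.lTensor_tmul, Bialgebra.comul_one, Algebra.TensorProduct.one_def,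
    TensorProduct.assoc_symm_tmul]

variable (k H A) in
/-- `(x ⊗ h) ↦ x * (1 ⊗ S h)` -/
def m₁ : (A ⊗[k] H) ⊗[k] H →ₗ[k] A ⊗[k] H :=
  LinearMap.mul' k (A ⊗[k] H) ∘ₗ
    ((Algebra.TensorProduct.includeRight : H →ₐ[k] A ⊗[k] H).toLinearMap ∘ₗ
      (HopfAlgebra.antipode k : H →ₗ[k] H)).lTensor (A ⊗[k] H)

theorem m₁_tmul (x : A ⊗[k] H) (h : H) :
    m₁ k H A (x ⊗ₜ[k] h) = x * ((1 : A) ⊗ₜ[k] HopfAlgebra.antipode k h) := by
  simp [m₁]

theorem m₁_assoc_symm (a : A) (w : H ⊗[k] H) :
    m₁ k H A ((TensorProduct.assoc k A H H).symm (a ⊗ₜ[k] w)) =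
      a ⊗ₜ[k] LinearMap.mul' k H ((HopfAlgebra.antipode k : H →ₗ[k] H).lTensor H w) := by
  induction w using TensorProduct.induction_on with
  | zero => simp
  | tmul h₁ h₂ =>
    rw [TensorProduct.assoc_symm_tmul, m₁_tmul, Algebra.TensorProduct.tmul_mul_tmul, mul_one,
      LinearMap.lTensor_tmul, LinearMap.mul'_apply]
  | add x y hx hy =>
    rw [TensorProduct.tmul_add, map_add, map_add, hx, hy, map_add, map_add,
      TensorProduct.tmul_add]

theorem m₁_assoc_symm_comul (t : A ⊗[k] H) :
    m₁ k H A ((TensorProduct.assoc k A H H).symm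
      ((CoalgebraStruct.comul (R := k) (A := H)).lTensor A t)) =
      (Algebra.linearMap k H ∘ₗ CoalgebraStruct.counit (R := k) (A := H)).lTensor A t := by
  induction t using TensorProduct.induction_on with
  | zero => simp
  | tmul a h =>
    rw [LinearMap.lTensor_tmul, m₁_assoc_symm, HopfAlgebra.mul_antipode_lTensor_comul_apply,
      LinearMap.lTensor_tmul]
    rfl
  | add x y hx hy => simp only [map_add, hx, hy]

/-- the augmentation `A ⊗ H → A` -/
def aug : A ⊗[k] H →ₐ[k] A :=
  Algebra.TensorProduct.lift (AlgHom.id k A)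
    ((Algebra.ofId k A).comp (Bialgebra.counitAlgHom k H)) (fun _ _ => Commute.all _ _)

theorem aug_tmul (a : A) (h : H) :
    aug (k := k) (a ⊗ₜ[k] h) = a * algebraMap k A (CoalgebraStruct.counit (R := k) h) := by
  simp [aug, Algebra.ofId_apply]

theorem aug_eq (t : A ⊗[k] H) :
    aug (k := k) t = TensorProduct.rid k A
      ((CoalgebraStruct.counit (R := k) (A := H)).lTensor A t) := by
  induction t using TensorProduct.induction_on with
  | zero => simp
  | tmul a h =>
    rw [aug_tmul, LinearMap.lTensor_tmul, TensorProduct.rid_tmul, Algebra.smul_def, mul_comm]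
  | add x y hx hy => simp only [map_add, hx, hy]

end Shear

section Main

variable {k : Type u} [Field k] {H : Type v} [CommRing H] [HopfAlgebra k H]
variable {A : Type w} [CommRing A] [Algebra k A] [HopfRep.Comod k H A] [GLin.IsCoactAlg k H A]

theorem counit_lTensor_coact (a : A) :
    (CoalgebraStruct.counit (R := k) (A := H)).lTensor A
      (HopfRep.Comod.coact (k := k) (A := H) a) = a ⊗ₜ[k] (1 : k) := by
  have := LinearMap.congr_fun (HopfRep.Comod.counit_comp (k := k) (A := H) (V := A)) a
  simpa using this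

theorem aug_coact (a : A) : aug (k := k) (HopfRep.Comod.coact (k := k) (A := H) a) = a := by
  rw [aug_eq, counit_lTensor_coact, TensorProduct.rid_tmul, one_smul]

/-- A Noetherian comodule algebra over a linearly reductive group of finite type is generated by
finitely many elements over its invariants. -/
theorem exists_finset_adjoin_invariants [Algebra.FiniteType k H]
    (hG : HopfRep.IsLinearlyReductive k H) [IsNoetherianRing A] :
    ∃ t : Finset A, ∀ a : A,
      a ∈ Algebra.adjoin k ((GLin.invariants k H A : Set A) ∪ (t : Set A)) := by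
  classical
  obtain ⟨l, hl⟩ := exists_isInt hG
  obtain ⟨F, hF⟩ := (Algebra.FiniteType.out : (⊤ : Subalgebra k H).FG)
  obtain ⟨n, hh, c, hFh, hcoact, hcom⟩ := exists_matrix_coeff (k := k) (H := H) (V := H) F
  have hcoact' : ∀ j, CoalgebraStruct.comul (R := k) (hh j) = ∑ i, hh i ⊗ₜ[k] c i j := hcoact
  set ρA : A →ₐ[k] A ⊗[k] H := GLin.coactAlgHom k H A with hρA
  have hAco : Coassoc ρA.toLinearMap := by
    intro a
    exact coassoc_of_comod (k := k) (H := H) (V := A) a
  let vv : Fin n → A ⊗[k] H := fun j => (1 : A) ⊗ₜ[k] hh j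
  have hφ : ∀ a, ρQ k H A (ρA a) = Algebra.TensorProduct.map ρA (AlgHom.id k H) (ρA a) :=
    fun a => (hAco a).symm
  have hv : ∀ j, ρQ k H A (vv j) = ∑ i, vv i ⊗ₜ[k] c i j := by
    intro j
    rw [ρQ_apply, LinearMap.lTensor_tmul, hcoact', TensorProduct.tmul_sum, map_sum]
    refine Finset.sum_congr rfl fun i _ => ?_
    rw [TensorProduct.assoc_symm_tmul]
  -- surjectivity of `Θ`
  have hRa : ∀ a, ρA a ∈ (Θ ρA vv).range := fun a => ⟨C a, Θ_C ρA vv a⟩
  have hRh : ∀ h : H, (1 : A) ⊗ₜ[k] h ∈ (Θ ρA vv).range := by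
    intro h
    have h1 : Algebra.adjoin k (F : Set H) ≤
        (Θ ρA vv).range.comap (Algebra.TensorProduct.includeRight : H →ₐ[k] A ⊗[k] H) := by
      apply Algebra.adjoin_le
      intro x hx
      have h2 : Submodule.span k (Set.range hh) ≤ Subalgebra.toSubmodule
          ((Θ ρA vv).range.comap
            (Algebra.TensorProduct.includeRight : H →ₐ[k] A ⊗[k] H)) := by
        rw [Submodule.span_le]
        rintro _ ⟨j, rfl⟩
        exact ⟨X j, Θ_X ρA vv j⟩
      exact h2 (hFh x hx)
    have h3 : h ∈ Algebra.adjoin k (F : Set H) := by rw [hF]; trivial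
    exact h1 h3
  have hRm : ∀ t : A ⊗[k] H, m₁ k H A (ρA.toLinearMap.rTensor H t) ∈ (Θ ρA vv).range := by
    intro t
    induction t using TensorProduct.induction_on with
    | zero => rw [map_zero, map_zero]; exact Subalgebra.zero_mem _
    | tmul a h =>
      rw [LinearMap.rTensor_tmul, m₁_tmul]
      exact Subalgebra.mul_mem _ (hRa a) (hRh _)
    | add x y hx hy => rw [map_add, map_add]; exact Subalgebra.add_mem _ hx hy
  have hRa1 : ∀ a : A, a ⊗ₜ[k] (1 : H) ∈ (Θ ρA vv).range := by
    intro a
    have h1 := hRm (ρA a)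
    have h2 : ρA.toLinearMap.rTensor H (ρA a) = (TensorProduct.assoc k A H H).symm
        ((CoalgebraStruct.comul (R := k) (A := H)).lTensor A (ρA a)) := hAco a
    rw [h2, m₁_assoc_symm_comul, LinearMap.lTensor_comp_apply] at h1
    have h3 : (CoalgebraStruct.counit (R := k) (A := H)).lTensor A (ρA a) = a ⊗ₜ[k] (1 : k) :=
      counit_lTensor_coact a
    rw [h3, LinearMap.lTensor_tmul] at h1
    simpa using h1
  have hsurj : Function.Surjective (Θ ρA vv) := by
    intro t
    have : t ∈ (Θ ρA vv).range := by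
      induction t using TensorProduct.induction_on with
      | zero => exact Subalgebra.zero_mem _
      | tmul a h =>
        have h1 : a ⊗ₜ[k] h = (a ⊗ₜ[k] (1 : H)) * ((1 : A) ⊗ₜ[k] h) := by
          rw [Algebra.TensorProduct.tmul_mul_tmul, mul_one, one_mul]
        rw [h1]
        exact Subalgebra.mul_mem _ (hRa1 a) (hRh h)
      | add x y hx hy => exact Subalgebra.add_mem _ hx hy
    exact this
  obtain ⟨s, hs1, hs2⟩ := exists_generators_of_surjective ρA c (ρQ k H A) ρA vv l hl hAco hcom
    hφ hv hsurj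
  refine ⟨s.image (aug (k := k)), fun a => ?_⟩
  have h1 := hs2 (a ⊗ₜ[k] (1 : H)) (ρQ_tmul_one a)
  have h2 : aug (k := k) (a ⊗ₜ[k] (1 : H)) ∈
      (Algebra.adjoin k (ρA '' {a : A | ρA a = a ⊗ₜ[k] (1 : H)} ∪ (s : Set (A ⊗[k] H)))).map
        (aug (k := k)) := ⟨_, h1, rfl⟩
  rw [AlgHom.map_adjoin, Set.image_union, Set.image_image] at h2
  have h3 : aug (k := k) (a ⊗ₜ[k] (1 : H)) = a := by
    rw [aug_tmul, Bialgebra.counit_one, map_one, mul_one]
  rw [h3] at h2
  have h4 : (fun x : A => aug (k := k) (ρA x)) '' {a : A | ρA a = a ⊗ₜ[k] (1 : H)} =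
      (GLin.invariants k H A : Set A) := by
    ext x
    constructor
    · rintro ⟨y, hy, rfl⟩
      have : aug (k := k) (ρA y) = y := aug_coact y
      show aug (k := k) (ρA y) ∈ _
      rw [this]
      exact hy
    · intro hx
      exact ⟨x, hx, aug_coact x⟩
  rw [h4] at h2
  rw [Finset.coe_image]
  exact h2

end Main

end Groth.Agent.Lib.Helper6.LinRed
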