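import Mathlib
import Groth.Agent.Lib.Helper4.FFAlg1

/-!
# Chevalley's lemma for finite modules over a complete Noetherian local ring (helper6)

A decreasing sequence of submodules with zero intersection of a finite module over a complete
Noetherian local ring is cofinal with the adic filtration.
-/

set_option autoImplicit false
set_option linter.unusedSectionVars false
set_option linter.unusedVariables false
set_option linter.unusedSimpArgs false
set_option linter.style.haveILetI false
set_option linter.overlappingInstances false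
set_option maxHeartbeats 800000

universe u v

namespace Groth.Agent.Lib.Helper6.LinRed

open IsLocalRing

section Chevalley

variable {R : Type u} [CommRing R] [IsLocalRing R] [IsNoetherianRing R]
variable {N : Type v} [AddCommGroup N] [Module R N] [Module.Finite R N]

/-- Krull: submodules of a finite module over a Noetherian local ring are closed. -/
theorem mem_of_forall_mem_sup_pow (F : Submodule R N) (x : N)
    (hx : ∀ i : ℕ, x ∈ F ⊔ (maximalIdeal R ^ i • ⊤ : Submodule R N)) : x ∈ F := by
  have h1 : F.mkQ x ∈ (⨅ i : ℕ, maximalIdeal R ^ i • ⊤ : Submodule R (N ⧸ F)) := by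
    rw [Submodule.mem_iInf]
    intro i
    obtain ⟨a, ha, b, hb, hab⟩ := Submodule.mem_sup.mp (hx i)
    have h2 : F.mkQ x = F.mkQ b := by
      rw [← hab, map_add]
      have h3 : F.mkQ a = 0 := by
        rw [Submodule.mkQ_apply]
        exact (Submodule.Quotient.mk_eq_zero F).mpr ha
      rw [h3, zero_add]
    rw [h2]
    have h3 : F.mkQ b ∈ (maximalIdeal R ^ i • ⊤ : Submodule R N).map F.mkQ :=
      Submodule.mem_map_of_mem hb
    rw [Submodule.map_smul''] at h3
    exact Submodule.smul_mono le_rfl le_top h3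
  rw [Ideal.iInf_pow_smul_eq_bot_of_isLocalRing _
    (Ideal.IsMaximal.ne_top (maximalIdeal.isMaximal R))] at h1
  have h4 : F.mkQ x = 0 := (Submodule.mem_bot R).mp h1
  rw [Submodule.mkQ_apply] at h4
  exact (Submodule.Quotient.mk_eq_zero F).mp h4

/-- stabilisation of `F n ⊔ 𝔪^j N`. -/
theorem exists_stab_sup_pow (F : ℕ → Submodule R N) (hF : Antitone F) (j : ℕ) :
    ∃ n₀, ∀ n, n₀ ≤ n → F n ⊔ (maximalIdeal R ^ j • ⊤ : Submodule R N) =
      F n₀ ⊔ (maximalIdeal R ^ j • ⊤ : Submodule R N) := by
  by_cases hj : j = 0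
  · subst hj
    refine ⟨0, fun n _ => ?_⟩
    simp
  have hmin : maximalIdeal R ∈ (maximalIdeal R ^ j).minimalPrimes := by
    refine ⟨⟨inferInstance, Ideal.pow_le_self hj⟩, ?_⟩
    rintro q ⟨hq, hqk⟩ _
    exact hq.le_of_pow_le hqk
  haveI hart : IsArtinianRing (R ⧸ maximalIdeal R ^ j) :=
    IsLocalRing.quotient_artinian_of_mem_minimalPrimes_of_isLocalRing _ hmin
  haveI hfin : Module.Finite (R ⧸ maximalIdeal R ^ j)
      (N ⧸ (maximalIdeal R ^ j • ⊤ : Submodule R N)) :=
    Module.Finite.of_restrictScalars_finite R _ _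
  haveI hA1 : IsArtinian (R ⧸ maximalIdeal R ^ j)
      (N ⧸ (maximalIdeal R ^ j • ⊤ : Submodule R N)) := inferInstance
  haveI hA2 : IsArtinian R (N ⧸ (maximalIdeal R ^ j • ⊤ : Submodule R N)) :=
    isArtinian_of_surjective_algebraMap (R := R ⧸ maximalIdeal R ^ j)
      Ideal.Quotient.mk_surjective
  let f : ℕ →o (Submodule R (N ⧸ (maximalIdeal R ^ j • ⊤ : Submodule R N)))ᵒᵈ :=
    { toFun := fun s => OrderDual.toDual
        ((F s).map (maximalIdeal R ^ j • ⊤ : Submodule R N).mkQ)
      monotone' := fun a b e => Submodule.map_mono (hF e) }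
  obtain ⟨n₀, hn₀⟩ := IsArtinian.monotone_stabilizes f
  refine ⟨n₀, fun n hn => ?_⟩
  have h1 : (F n).map (maximalIdeal R ^ j • ⊤ : Submodule R N).mkQ =
      (F n₀).map (maximalIdeal R ^ j • ⊤ : Submodule R N).mkQ :=
    (congrArg OrderDual.ofDual (hn₀ n hn)).symm
  have h2 := congrArg (Submodule.comap (maximalIdeal R ^ j • ⊤ : Submodule R N).mkQ) h1
  rw [Submodule.comap_map_mkQ, Submodule.comap_map_mkQ] at h2
  rw [sup_comm, h2, sup_comm]

/-- **Chevalley's lemma** for modules. -/
theorem chevalley [IsAdicComplete (maximalIdeal R) R] (F : ℕ → Submodule R N) (hF : Antitone F)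
    (hF0 : ⨅ n, F n = ⊥) (j : ℕ) :
    ∃ n, F n ≤ (maximalIdeal R ^ j • ⊤ : Submodule R N) := by
  classical
  by_contra hcon
  push Not at hcon
  let P : ℕ → Submodule R N := fun i => maximalIdeal R ^ i • ⊤
  have hP : Antitone P := fun a b hab => Submodule.smul_mono_left (Ideal.pow_le_pow_right hab)
  choose n₀ hn₀ using exists_stab_sup_pow F hF
  let E : ℕ → Submodule R N := fun i => F (n₀ i) ⊔ P i
  have hE1 : ∀ i n, n₀ i ≤ n → F n ⊔ P i = E i := fun i n hn => hn₀ i n hn
  have hE2 : ∀ i n, E i ≤ F n ⊔ P i := by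
    intro i n
    rcases le_total (n₀ i) n with h | h
    · rw [hE1 i n h]
    · exact sup_le_sup_right (hF h) _
  have step : ∀ i (y : N), y ∈ E i → ∃ y', y' ∈ E (i + 1) ∧ y' - y ∈ P i := by
    intro i y hy
    have h1 : y ∈ F (max (n₀ i) (n₀ (i + 1))) ⊔ P i := by
      rw [hE1 i _ (le_max_left _ _)]; exact hy
    obtain ⟨a, ha, b, hb, hab⟩ := Submodule.mem_sup.mp h1
    refine ⟨a, ?_, ?_⟩
    · rw [← hE1 (i + 1) _ (le_max_right (n₀ i) (n₀ (i + 1)))]
      exact Submodule.mem_sup_left ha
    · have h2 : a - y = -b := by rw [← hab]; abel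
      rw [h2]; exact Submodule.neg_mem _ hb
  have h0 : ¬ E j ≤ P j := by
    intro h
    exact hcon (n₀ j) (le_trans le_sup_left h)
  obtain ⟨y₀, hy₀E, hy₀P⟩ := SetLike.not_le_iff_exists.mp h0
  choose! g hg1 hg2 using step
  let y : ℕ → N := fun i => Nat.rec y₀ (fun i yi => g (j + i) yi) i
  have hy0 : y 0 = y₀ := rfl
  have hys : ∀ i, y (i + 1) = g (j + i) (y i) := fun i => rfl
  have hyE : ∀ i, y i ∈ E (j + i) := by
    intro i
    induction i with
    | zero => exact hy₀E
    | succ i ih => rw [hys]; exact hg1 (j + i) (y i) ih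
  have hyd : ∀ i, y (i + 1) - y i ∈ P (j + i) := fun i => by
    rw [hys]; exact hg2 (j + i) (y i) (hyE i)
  have hyc : ∀ a b, a ≤ b → y b - y a ∈ P (j + a) := by
    intro a b hab
    induction b, hab using Nat.le_induction with
    | base => rw [sub_self]; exact Submodule.zero_mem _
    | succ b hb ih =>
      have h2 : y (b + 1) - y a = (y (b + 1) - y b) + (y b - y a) := by abel
      rw [h2]
      exact Submodule.add_mem _ (hP (by omega) (hyd b)) ih
  haveI : IsPrecomplete (maximalIdeal R) N :=
    Groth.Agent.Lib.Helper4.FFAlg1.isPrecomplete_of_finite (maximalIdeal R)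
  obtain ⟨L, hL⟩ := IsPrecomplete.prec (I := maximalIdeal R) (M := N) inferInstance (f := y) (by
    intro a b hab
    rw [SModEq.sub_mem]
    have h1 := hyc a b hab
    have h2 : y a - y b = -(y b - y a) := by abel
    rw [h2]
    exact Submodule.neg_mem _ (hP (Nat.le_add_left a j) h1))
  have hL' : ∀ i, y i - L ∈ P (j + i) := by
    intro i
    have h1 := hL (j + i)
    rw [SModEq.sub_mem] at h1
    have h2 := hyc i (j + i) (Nat.le_add_left i j)
    have h3 : y i - L = (y (j + i) - L) - (y (j + i) - y i) := by abel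
    rw [h3]
    exact Submodule.sub_mem _ h1 (hP (by omega) h2)
  have hLE : ∀ i, L ∈ E (j + i) := by
    intro i
    have h1 : L = y i - (y i - L) := by abel
    rw [h1]
    exact Submodule.sub_mem _ (hyE i) (Submodule.mem_sup_right (hL' i))
  have hLF : ∀ n, L ∈ F n := by
    intro n
    apply mem_of_forall_mem_sup_pow (F n) L
    intro i
    have h1 := hE2 (j + i) n (hLE i)
    exact sup_le_sup_left (hP (Nat.le_add_left i j)) _ h1
  have hL0 : L = 0 := by
    have h1 : L ∈ ⨅ n, F n := (Submodule.mem_iInf _).mpr hLF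
    rw [hF0] at h1
    exact (Submodule.mem_bot R).mp h1
  apply hy₀P
  have h1 := hL' 0
  rw [hL0, sub_zero, hy0, add_zero] at h1
  exact h1

end Chevalley

end Groth.Agent.Lib.Helper6.LinRed
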