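import Groth.Agent.Lib.Helper6.LinRed.LRa
import Groth.Agent.Lib.Helper6.LinRed.LRf

/-!
# Invariants of a Hopf module over a complete ring of invariants (helper6)

For a linearly reductive `H`, a Noetherian comodule algebra `A` with complete local Noetherian ring
of invariants `B`, a stable maximal ideal `m` and a finite Hopf module `M`: the `m`-adic filtration
and the `𝔪_B`-adic filtration induce the same topology on `M^G` (S16105).
-/

set_option autoImplicit false
set_option linter.unusedSectionVars false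
set_option linter.unusedVariables false
set_option linter.unusedSimpArgs false
set_option linter.style.haveILetI false
set_option linter.overlappingInstances false
set_option maxHeartbeats 800000
set_option synthInstance.maxHeartbeats 400000

universe u v w w'

open TensorProduct

namespace Groth.Agent.Lib.Helper6.LinRed

section Inv

variable {k : Type u} [Field k] {H : Type v} [CommRing H] [HopfAlgebra k H]
variable {A : Type w} [CommRing A] [Algebra k A] [HopfRep.Comod k H A] [GLin.IsCoactAlg k H A]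
variable {M : Type w'} [AddCommGroup M] [Module k M] [Module A M] [IsScalarTower k A M]
  [HopfRep.Comod k H M] [TameAct.IsHopfMod k H A M]

theorem smul_mem_fixedPts (l : H →ₗ[k] k) (hl : IsInt l) {b : A}
    (hb : b ∈ GLin.invariants k H A) {x : M} (hx : x ∈ HopfRep.fixedPts k H M) :
    b • x ∈ HopfRep.fixedPts k H M := by
  have h1 := reyn_smul_left (M := M) l hb x
  rw [reyn_of_mem l hl hx] at h1
  rw [← h1]
  exact reyn_mem_fixedPts l hl _

theorem reyn_one (l : H →ₗ[k] k) (hl : IsInt l) : reyn l (1 : A) = 1 :=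
  reyn_of_mem l hl (Subalgebra.one_mem (GLin.invariants k H A))

/-- the invariants of `M` as a module over the ring of invariants -/
def fixB (l : H →ₗ[k] k) (hl : IsInt l) : Submodule ↥(GLin.invariants k H A) M where
  carrier := {x | x ∈ HopfRep.fixedPts k H M}
  add_mem' := fun {a b} ha hb => by
    show a + b ∈ HopfRep.fixedPts k H M
    exact (HopfRep.fixedPts k H M).add_mem ha hb
  zero_mem' := by
    show (0 : M) ∈ HopfRep.fixedPts k H M
    exact (HopfRep.fixedPts k H M).zero_mem
  smul_mem' := fun b x hx => by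
    show (b : A) • x ∈ HopfRep.fixedPts k H M
    exact smul_mem_fixedPts l hl b.2 hx

theorem mem_fixB (l : H →ₗ[k] k) (hl : IsInt l) (x : M) :
    x ∈ fixB (A := A) l hl ↔ x ∈ HopfRep.fixedPts k H M := Iff.rfl

theorem fixB_fg [IsNoetherianRing A] [Module.Finite A M] (l : H →ₗ[k] k) (hl : IsInt l) :
    (fixB (A := A) (M := M) l hl).FG := by
  classical
  haveI : IsNoetherian A M := isNoetherian_of_isNoetherianRing_of_finite A M
  have hfg : (Submodule.span A (HopfRep.fixedPts k H M : Set M)).FG := IsNoetherian.noetherian _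
  obtain ⟨s, hs1, hs2⟩ := (Submodule.fg_span_iff_fg_span_finset_subset _).mp hfg
  refine ⟨s, le_antisymm (Submodule.span_le.mpr fun x hx => hs1 hx) fun x hx => ?_⟩
  have hxf : x ∈ HopfRep.fixedPts k H M := hx
  have hx' : x ∈ Submodule.span A (s : Set M) := by
    rw [← hs2]; exact Submodule.subset_span hxf
  obtain ⟨f, hf⟩ := Submodule.mem_span_finset'.mp hx'
  have h1 : x = ∑ a : s, reyn l (f a) • (a : M) := by
    conv_lhs => rw [← reyn_of_mem l hl hxf, ← hf, map_sum]
    refine Finset.sum_congr rfl fun a _ => ?_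
    exact reyn_smul_right l (hs1 a.2) (f a)
  rw [h1]
  refine Submodule.sum_mem _ fun a _ => ?_
  have h2 : reyn l (f a) • (a : M) =
      (⟨reyn l (f a), reyn_mem_fixedPts l hl _⟩ : ↥(GLin.invariants k H A)) • (a : M) := rfl
  rw [h2]
  exact Submodule.smul_mem _ _ (Submodule.subset_span a.2)

/-- an invariant lying in the stable maximal ideal is in the maximal ideal of the invariants -/
theorem mem_maximalIdeal_of_mem [IsLocalRing ↥(GLin.invariants k H A)]
    (m : Ideal A) [m.IsMaximal] (c : ↥(GLin.invariants k H A)) (hc : (c : A) ∈ m) :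
    c ∈ IsLocalRing.maximalIdeal ↥(GLin.invariants k H A) := by
  rw [IsLocalRing.mem_maximalIdeal, mem_nonunits_iff]
  intro hu
  have hu' : IsUnit ((GLin.invariants k H A).val c) := hu.map (GLin.invariants k H A).val
  exact (Ideal.IsMaximal.ne_top inferInstance) (Ideal.eq_top_of_isUnit_mem m hc hu')

/-- the maximal ideal of the invariants lies in the stable maximal ideal -/
theorem mem_of_mem_maximalIdeal [IsLocalRing ↥(GLin.invariants k H A)]
    (l : H →ₗ[k] k) (hl : IsInt l)
    (m : Ideal A) [hmax : m.IsMaximal]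
    (hm : HopfRep.IsSubcomod (k := k) (A := H) (m.restrictScalars k))
    (b : ↥(GLin.invariants k H A))
    (hb : b ∈ IsLocalRing.maximalIdeal ↥(GLin.invariants k H A)) : (b : A) ∈ m := by
  by_contra hbm
  obtain ⟨a, i, hi, hai⟩ := hmax.exists_inv hbm
  have h1 : reyn l (a * (b : A) + i) = 1 := by rw [hai, reyn_one l hl]
  rw [map_add, mul_comm, reyn_mul l b.2 a] at h1
  have hri : reyn l i ∈ m := reyn_mem_subcomod l (m.restrictScalars k) hm hi
  set b' : ↥(GLin.invariants k H A) := ⟨reyn l a, reyn_mem_fixedPts l hl _⟩ with hb'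
  set i' : ↥(GLin.invariants k H A) := ⟨reyn l i, reyn_mem_fixedPts l hl _⟩ with hi'
  have h2 : b * b' + i' = 1 := Subtype.ext h1
  have h3 : i' ∈ IsLocalRing.maximalIdeal ↥(GLin.invariants k H A) :=
    mem_maximalIdeal_of_mem m i' hri
  have h4 : (1 : ↥(GLin.invariants k H A)) ∈
      IsLocalRing.maximalIdeal ↥(GLin.invariants k H A) := by
    rw [← h2]
    exact Ideal.add_mem _ (Ideal.mul_mem_right _ _ hb) h3
  exact (Ideal.ne_top_iff_one _).mp
    (Ideal.IsMaximal.ne_top (IsLocalRing.maximalIdeal.isMaximal _)) h4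

/-- Part (i): an invariant lying in all `m^n M` vanishes. -/
theorem eq_zero_of_forall_mem_pow [IsNoetherianRing A] [Module.Finite A M]
    [IsLocalRing ↥(GLin.invariants k H A)]
    (l : H →ₗ[k] k) (hl : IsInt l)
    (m : Ideal A) [hmax : m.IsMaximal]
    (hm : HopfRep.IsSubcomod (k := k) (A := H) (m.restrictScalars k))
    (x : M) (hx : x ∈ HopfRep.fixedPts k H M)
    (hxn : ∀ n : ℕ, x ∈ (m ^ n • ⊤ : Submodule A M)) : x = 0 := by
  have h1 : x ∈ (⨅ i : ℕ, m ^ i • ⊤ : Submodule A M) := (Submodule.mem_iInf _).mpr hxn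
  obtain ⟨r, hr⟩ := (Ideal.mem_iInf_smul_pow_eq_bot_iff m x).mp h1
  set c : ↥(GLin.invariants k H A) := ⟨reyn l (r : A), reyn_mem_fixedPts l hl _⟩ with hc
  have hcm : (c : A) ∈ m := reyn_mem_subcomod l (m.restrictScalars k) hm r.2
  have hc𝔪 : c ∈ IsLocalRing.maximalIdeal ↥(GLin.invariants k H A) :=
    mem_maximalIdeal_of_mem m c hcm
  have h2 : c • x = x := by
    have h3 : reyn l ((r : A) • x) = reyn l (r : A) • x := reyn_smul_right l hx (r : A)
    rw [hr, reyn_of_mem l hl hx] at h3
    exact h3.symm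
  have hu : IsUnit (1 - c) :=
    IsLocalRing.isUnit_one_sub_self_of_mem_nonunits c
      ((IsLocalRing.mem_maximalIdeal c).mp hc𝔪)
  have h4 : (1 - c) • x = 0 := by rw [sub_smul, one_smul, h2, sub_self]
  exact hu.smul_eq_zero.mp h4

/-- the filtration of the invariants induced by the `m`-adic filtration -/
def fil (l : H →ₗ[k] k) (hl : IsInt l) (m : Ideal A) (n : ℕ) :
    Submodule ↥(GLin.invariants k H A) ↥(fixB (A := A) (M := M) l hl) where
  carrier := {x | (x : M) ∈ (m ^ n • ⊤ : Submodule A M)}
  add_mem' := fun {a b} ha hb => by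
    show ((a : M) + (b : M)) ∈ (m ^ n • ⊤ : Submodule A M)
    exact (m ^ n • ⊤ : Submodule A M).add_mem ha hb
  zero_mem' := by
    show (0 : M) ∈ (m ^ n • ⊤ : Submodule A M)
    exact (m ^ n • ⊤ : Submodule A M).zero_mem
  smul_mem' := fun b x hx => by
    show (b : A) • (x : M) ∈ (m ^ n • ⊤ : Submodule A M)
    exact (m ^ n • ⊤ : Submodule A M).smul_mem (b : A) hx

theorem mem_fil (l : H →ₗ[k] k) (hl : IsInt l) (m : Ideal A) (n : ℕ)
    (x : ↥(fixB (A := A) (M := M) l hl)) :
    x ∈ fil l hl m n ↔ (x : M) ∈ (m ^ n • ⊤ : Submodule A M) := Iff.rfl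

theorem fil_antitone (l : H →ₗ[k] k) (hl : IsInt l) (m : Ideal A) :
    Antitone (fil (M := M) l hl m) := fun a b hab x hx =>
  Submodule.smul_mono_left (Ideal.pow_le_pow_right hab) hx

/-- `𝔪_B^j M^G ⊆ m^j M` -/
theorem coe_mem_of_mem_pow_smul [IsLocalRing ↥(GLin.invariants k H A)]
    (l : H →ₗ[k] k) (hl : IsInt l)
    (m : Ideal A) [hmax : m.IsMaximal]
    (hm : HopfRep.IsSubcomod (k := k) (A := H) (m.restrictScalars k)) (j : ℕ)
    (x : ↥(fixB (A := A) (M := M) l hl))
    (hx : x ∈ (IsLocalRing.maximalIdeal ↥(GLin.invariants k H A) ^ j • ⊤ :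
      Submodule ↥(GLin.invariants k H A) ↥(fixB (A := A) (M := M) l hl))) :
    (x : M) ∈ (m ^ j • ⊤ : Submodule A M) := by
  have hle : IsLocalRing.maximalIdeal ↥(GLin.invariants k H A) ≤
      Ideal.comap (GLin.invariants k H A).val m := fun b hb =>
    mem_of_mem_maximalIdeal l hl m hm b hb
  have hle' : IsLocalRing.maximalIdeal ↥(GLin.invariants k H A) ^ j ≤
      Ideal.comap (GLin.invariants k H A).val (m ^ j) :=
    le_trans (Ideal.pow_right_mono hle j) (Ideal.le_comap_pow _ j)
  refine Submodule.smul_induction_on hx (fun b hb y _ => ?_) (fun y z hy hz => ?_)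
  · have hb' : (b : A) ∈ m ^ j := hle' hb
    exact Submodule.smul_mem_smul hb' (Submodule.mem_top (x := (y : M)))
  · exact Submodule.add_mem _ hy hz

/-- Part (ii). -/
theorem exists_limit [IsNoetherianRing A] [Module.Finite A M]
    [IsLocalRing ↥(GLin.invariants k H A)] [IsNoetherianRing ↥(GLin.invariants k H A)]
    [IsAdicComplete (IsLocalRing.maximalIdeal ↥(GLin.invariants k H A))
      ↥(GLin.invariants k H A)]
    (l : H →ₗ[k] k) (hl : IsInt l)
    (m : Ideal A) [hmax : m.IsMaximal]
    (hm : HopfRep.IsSubcomod (k := k) (A := H) (m.restrictScalars k))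
    (x : ℕ → M) (hx : ∀ n, x n ∈ HopfRep.fixedPts k H M)
    (hd : ∀ n, x (n + 1) - x n ∈ (m ^ n • ⊤ : Submodule A M)) :
    ∃ y ∈ HopfRep.fixedPts k H M, ∀ n, y - x n ∈ (m ^ n • ⊤ : Submodule A M) := by
  classical
  haveI hfin : Module.Finite ↥(GLin.invariants k H A) ↥(fixB (A := A) (M := M) l hl) :=
    Module.Finite.iff_fg.mpr (fixB_fg l hl)
  -- telescoping
  have hxc : ∀ a b, a ≤ b → x b - x a ∈ (m ^ a • ⊤ : Submodule A M) := by
    intro a b hab
    induction b, hab using Nat.le_induction with
    | base => rw [sub_self]; exact Submodule.zero_mem _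
    | succ b hb ih =>
      have h2 : x (b + 1) - x a = (x (b + 1) - x b) + (x b - x a) := by abel
      rw [h2]
      exact Submodule.add_mem _
        (Submodule.smul_mono_left (Ideal.pow_le_pow_right hb) (hd b)) ih
  -- the filtration has zero intersection
  have hF0 : ⨅ n, fil (M := M) l hl m n = ⊥ := by
    rw [eq_bot_iff]
    intro z hz
    rw [Submodule.mem_iInf] at hz
    have h1 : (z : M) = 0 := eq_zero_of_forall_mem_pow l hl m hm (z : M) z.2 hz
    rw [Submodule.mem_bot]
    exact Subtype.ext h1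
  choose nn hnn using chevalley (fil (M := M) l hl m) (fil_antitone l hl m) hF0
  let T : ℕ → ℕ := fun j => j + ∑ i ∈ Finset.range (j + 1), nn i
  have hTmono : ∀ a b, a ≤ b → T a ≤ T b := fun a b hab =>
    add_le_add hab (Finset.sum_le_sum_of_subset (Finset.range_mono (by omega)))
  have hTnn : ∀ j, nn j ≤ T j := fun j =>
    le_trans (Finset.single_le_sum (f := nn) (fun i _ => Nat.zero_le _)
      (Finset.mem_range.mpr (Nat.lt_succ_self j))) (Nat.le_add_left _ _)
  have hTj : ∀ j, j ≤ T j := fun j => Nat.le_add_right _ _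
  let X : ℕ → ↥(fixB (A := A) (M := M) l hl) := fun n => ⟨x n, hx n⟩
  let z : ℕ → ↥(fixB (A := A) (M := M) l hl) := fun j => X (T j)
  haveI : IsPrecomplete (IsLocalRing.maximalIdeal ↥(GLin.invariants k H A))
      ↥(fixB (A := A) (M := M) l hl) :=
    Groth.Agent.Lib.Helper4.FFAlg1.isPrecomplete_of_finite _
  obtain ⟨L, hL⟩ := IsPrecomplete.prec
    (I := IsLocalRing.maximalIdeal ↥(GLin.invariants k H A))
    (M := ↥(fixB (A := A) (M := M) l hl)) inferInstance (f := z) (by
      intro a b hab
      rw [SModEq.sub_mem]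
      apply hnn a
      have h1 : z a - z b ∈ fil (M := M) l hl m (T a) := by
        rw [mem_fil]
        have h2 := hxc (T a) (T b) (hTmono a b hab)
        have h3 : ((z a - z b : ↥(fixB (A := A) (M := M) l hl)) : M) =
            -(x (T b) - x (T a)) := by
          show x (T a) - x (T b) = _
          abel
        rw [h3]
        exact Submodule.neg_mem _ h2
      exact fil_antitone l hl m (hTnn a) h1)
  refine ⟨(L : M), L.2, fun n => ?_⟩
  have h1 := hL n
  rw [SModEq.sub_mem] at h1
  have h2 := coe_mem_of_mem_pow_smul l hl m hm n (z n - L) h1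
  have h3 := hxc n (T n) (hTj n)
  have h4 : (L : M) - x n = (x (T n) - x n) - ((z n - L : ↥(fixB (A := A) (M := M) l hl)) : M) := by
    show (L : M) - x n = (x (T n) - x n) - (x (T n) - (L : M))
    abel
  rw [h4]
  exact Submodule.sub_mem _ h3 h2

end Inv

end Groth.Agent.Lib.Helper6.LinRed
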